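import Mathlib
import Groth.Agent.Lib.Helper1.ConstrL

/-! helper7: a constructibility criterion in Noetherian spaces (trace on every irreducible closed
subset contains or misses a nonempty open subset). -/

set_option linter.style.haveILetI false
set_option linter.unusedVariables false
set_option linter.unusedSectionVars false
set_option autoImplicit false

open Set Topology TopologicalSpace

namespace Groth.Agent.Helper7.GRLocus

/-- A subset of a Noetherian space whose trace on every irreducible closed subset contains or
misses a nonempty open subset of it is constructible. -/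
theorem isConstructible_of_forall_irreducible_or {X : Type*} [TopologicalSpace X]
    [NoetherianSpace X] (E : Set X)
    (H : ∀ Y : Set X, IsClosed Y → IsIrreducible Y →
      ∃ U : Set X, IsOpen U ∧ (U ∩ Y).Nonempty ∧ (U ∩ Y ⊆ E ∨ U ∩ Y ⊆ Eᶜ)) :
    IsConstructible E := by
  have key : ∀ Y : Set X, IsClosed Y → IsConstructible (E ∩ Y) := by
    apply Groth.Agent.Helper1.ConstrL.closed_induction
    · rw [inter_empty]; exact IsConstructible.empty
    · intro Y₁ Y₂ _ _ h1 h2
      rw [inter_union_distrib_left]
      exact h1.union h2
    · intro Y hY hYirr ih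
      obtain ⟨U, hU, hUne, hUsub⟩ := H Y hY hYirr
      have hlt : Y \ U ⊂ Y := by
        refine ⟨sdiff_subset, fun h => ?_⟩
        obtain ⟨z, hzU, hzY⟩ := hUne
        exact (h hzY).2 hzU
      have h1 := ih _ (hY.sdiff hU) hlt
      rcases hUsub with hUsub | hUsub
      · have h2 : IsConstructible (U ∩ Y) :=
          Groth.Agent.Helper1.ConstrL.isConstructible_of_isLocallyClosed
            (hU.isLocallyClosed.inter hY.isLocallyClosed)
        have e : E ∩ Y = (U ∩ Y) ∪ (E ∩ (Y \ U)) := by
          ext x
          constructor
          · rintro ⟨hxE, hxY⟩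
            by_cases hxU : x ∈ U
            · exact Or.inl ⟨hxU, hxY⟩
            · exact Or.inr ⟨hxE, hxY, hxU⟩
          · rintro (hx | hx)
            · exact ⟨hUsub hx, hx.2⟩
            · exact ⟨hx.1, hx.2.1⟩
        rw [e]; exact h2.union h1
      · have e : E ∩ Y = E ∩ (Y \ U) := by
          ext x
          constructor
          · rintro ⟨hxE, hxY⟩
            refine ⟨hxE, hxY, fun hxU => ?_⟩
            exact hUsub ⟨hxU, hxY⟩ hxE
          · rintro ⟨hxE, hxY, -⟩
            exact ⟨hxE, hxY⟩
        rw [e]; exact h1
  have := key univ isClosed_univ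
  rwa [inter_univ] at this

end Groth.Agent.Helper7.GRLocus
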