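import Mathlib
import Groth.Agent.Lib.Helper7.GRLocus.Top
import Groth.Agent.Lib.Helper7.GeomRedGen.Alg
import Groth.Agent.Lib.Helper7.NonRed.GeomAlg
import Groth.Agent.Lib.Helper7.GeomFib

/-! helper7: the locus of primes over which all field valued fibres of a finitely presented
algebra are reduced is constructible (Noetherian model, base change, Noetherian induction). -/

set_option linter.style.haveILetI false
set_option linter.unusedVariables false
set_option linter.unusedSectionVars false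
set_option autoImplicit false

open scoped TensorProduct
open Topology

namespace Groth.Agent.Helper7.GRLocus

universe u

/-- The locus of primes of `A` over which all field valued fibres of `B` are reduced. -/
def grLocus (A B : Type u) [CommRing A] [CommRing B] [Algebra A B] : Set (PrimeSpectrum A) :=
  {p | ∀ (K : Type u) [Field K] [Algebra A K],
    RingHom.ker (algebraMap A K) = p.asIdeal → IsReduced (B ⊗[A] K)}

/-- Preimages of constructible sets under maps of prime spectra are constructible. -/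
theorem isConstructible_preimage_comap {A₀ A : Type u} [CommRing A₀] [CommRing A]
    (φ : A₀ →+* A) {s : Set (PrimeSpectrum A₀)} (hs : IsConstructible s) :
    IsConstructible (PrimeSpectrum.comap φ ⁻¹' s) := by
  classical
  refine hs.preimage (PrimeSpectrum.continuous_comap φ) ?_
  intro U hUo hUr
  have hUc : IsCompact U := by
    have := hUr isCompact_univ isOpen_univ
    rwa [Set.inter_univ] at this
  obtain ⟨t, rfl⟩ := PrimeSpectrum.isCompact_isOpen_iff.mp ⟨hUc, hUo⟩
  have h1 : PrimeSpectrum.comap φ ⁻¹' (PrimeSpectrum.zeroLocus (t : Set A₀))ᶜ =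
      (PrimeSpectrum.zeroLocus ((t.image φ : Finset A) : Set A))ᶜ := by
    rw [Set.preimage_compl, PrimeSpectrum.preimage_comap_zeroLocus, Finset.coe_image]
  have h2 : IsCompact (PrimeSpectrum.comap φ ⁻¹' (PrimeSpectrum.zeroLocus (t : Set A₀))ᶜ) ∧
      IsOpen (PrimeSpectrum.comap φ ⁻¹' (PrimeSpectrum.zeroLocus (t : Set A₀))ᶜ) := by
    rw [h1]
    exact PrimeSpectrum.isCompact_isOpen_iff.mpr ⟨_, rfl⟩
  intro K hKc hKo
  exact QuasiSeparatedSpace.inter_isCompact _ _ h2.2 h2.1 hKo hKc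

/-- Reducedness of a field valued fibre descends along field extensions. -/
theorem isReduced_of_field_hom {A B K Ω : Type u} [CommRing A] [CommRing B] [Algebra A B]
    [Field K] [Field Ω] [Algebra A K] [Algebra A Ω] (i : K →ₐ[A] Ω)
    (h : IsReduced (B ⊗[A] Ω)) : IsReduced (B ⊗[A] K) := by
  letI : Algebra K Ω := i.toRingHom.toAlgebra
  haveI : IsScalarTower A K Ω := IsScalarTower.of_algebraMap_eq (fun a => (i.commutes a).symm)
  have hinj : Function.Injective (Algebra.linearMap K Ω) := (algebraMap K Ω).injective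
  obtain ⟨g, hg⟩ := (Algebra.linearMap K Ω).exists_leftInverse_of_injective
    (LinearMap.ker_eq_bot.mpr hinj)
  let φ : B ⊗[A] K →ₐ[A] B ⊗[A] Ω := Algebra.TensorProduct.map (AlgHom.id A B) i
  let ρ : B ⊗[A] Ω →ₗ[A] B ⊗[A] K := LinearMap.lTensor B (g.restrictScalars A)
  have hρφ : ∀ x, ρ (φ x) = x := by
    intro x
    induction x using TensorProduct.induction_on with
    | zero => rw [map_zero, map_zero]
    | tmul b k =>
      change ρ (b ⊗ₜ[A] i k) = b ⊗ₜ[A] k
      change b ⊗ₜ[A] g (i k) = b ⊗ₜ[A] k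
      congr 1
      exact LinearMap.congr_fun hg k
    | add x y hx hy => rw [map_add, map_add, hx, hy]
  exact isReduced_of_injective φ (Function.LeftInverse.injective hρφ)

/-- Transport of reducedness of fibres along a base change isomorphism. -/
theorem isReduced_tensor_iff_of_equiv {A₀ A B₀ B : Type u} [CommRing A₀] [CommRing A]
    [CommRing B₀] [CommRing B] [Algebra A₀ A] [Algebra A₀ B₀] [Algebra A B]
    (e : A ⊗[A₀] B₀ ≃ₐ[A] B) (K : Type u) [CommRing K] [Algebra A K] [Algebra A₀ K]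
    [IsScalarTower A₀ A K] :
    IsReduced (B ⊗[A] K) ↔ IsReduced (B₀ ⊗[A₀] K) := by
  rw [← NonRed.isReduced_baseChange_iff A₀ A B₀ K]
  let e' : (A ⊗[A₀] B₀) ⊗[A] K ≃ₐ[A] B ⊗[A] K :=
    Algebra.TensorProduct.congr e AlgEquiv.refl
  constructor
  · intro h
    exact isReduced_of_injective e' e'.injective
  · intro h
    exact isReduced_of_injective e'.symm e'.symm.injective

/-- A field over `A` with prescribed kernel dominating a given field over `A₀`. -/
theorem exists_field_over {A₀ A : Type u} [CommRing A₀] [CommRing A] [Algebra A₀ A]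
    (p : Ideal A) [p.IsPrime] (K₀ : Type u) [Field K₀] [Algebra A₀ K₀]
    (hK₀ : RingHom.ker (algebraMap A₀ K₀) = p.comap (algebraMap A₀ A)) :
    ∃ (Ω : Type u) (_ : Field Ω) (_ : Algebra A Ω) (j : K₀ →+* Ω),
      RingHom.ker (algebraMap A Ω) = p ∧
      ∀ a₀ : A₀, algebraMap A Ω (algebraMap A₀ A a₀) = j (algebraMap A₀ K₀ a₀) := by
  let F := FractionRing (A ⧸ p)
  let ιF : A →+* F := (algebraMap (A ⧸ p) F).comp (Ideal.Quotient.mk p)
  have hιF : ∀ x, ιF x = 0 ↔ x ∈ p := by
    intro x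
    change algebraMap (A ⧸ p) F (Ideal.Quotient.mk p x) = 0 ↔ _
    rw [map_eq_zero_iff _ (IsFractionRing.injective (A ⧸ p) F), Ideal.Quotient.eq_zero_iff_mem]
  let p₀ : Ideal A₀ := p.comap (algebraMap A₀ A)
  haveI : p₀.IsPrime := Ideal.IsPrime.comap _
  let k₀ := FractionRing (A₀ ⧸ p₀)
  let gF : A₀ ⧸ p₀ →+* F := Ideal.Quotient.lift p₀ (ιF.comp (algebraMap A₀ A)) (by
    intro x hx
    change ιF (algebraMap A₀ A x) = 0
    rw [hιF]
    exact hx)
  have hgF : Function.Injective gF := by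
    rw [injective_iff_map_eq_zero]
    intro z hz
    obtain ⟨x, rfl⟩ := Ideal.Quotient.mk_surjective z
    change ιF (algebraMap A₀ A x) = 0 at hz
    rw [hιF] at hz
    exact Ideal.Quotient.eq_zero_iff_mem.mpr hz
  let gK : A₀ ⧸ p₀ →+* K₀ := Ideal.Quotient.lift p₀ (algebraMap A₀ K₀) (by
    intro x hx
    have : x ∈ RingHom.ker (algebraMap A₀ K₀) := by rw [hK₀]; exact hx
    exact this)
  have hgK : Function.Injective gK := by
    rw [injective_iff_map_eq_zero]
    intro z hz
    obtain ⟨x, rfl⟩ := Ideal.Quotient.mk_surjective z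
    have h1 : x ∈ RingHom.ker (algebraMap A₀ K₀) := hz
    rw [hK₀] at h1
    exact Ideal.Quotient.eq_zero_iff_mem.mpr h1
  let a : k₀ →+* F := IsFractionRing.lift hgF
  let b : k₀ →+* K₀ := IsFractionRing.lift hgK
  obtain ⟨Ω, hΩ, iF, iK, hcomm⟩ := GeomFib.exists_common_extension k₀ F K₀ a b
  refine ⟨Ω, hΩ, (iF.comp ιF).toAlgebra, iK, ?_, ?_⟩
  · ext x
    rw [RingHom.mem_ker]
    change iF (ιF x) = 0 ↔ _
    rw [map_eq_zero_iff _ iF.injective, hιF]
  · intro a₀
    change iF (ιF (algebraMap A₀ A a₀)) = iK (algebraMap A₀ K₀ a₀)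
    have h1 : ιF (algebraMap A₀ A a₀) =
        a (algebraMap (A₀ ⧸ p₀) k₀ (Ideal.Quotient.mk p₀ a₀)) := by
      change _ = IsFractionRing.lift hgF (algebraMap (A₀ ⧸ p₀) k₀ (Ideal.Quotient.mk p₀ a₀))
      rw [IsFractionRing.lift_algebraMap]
      rfl
    have h2 : algebraMap A₀ K₀ a₀ =
        b (algebraMap (A₀ ⧸ p₀) k₀ (Ideal.Quotient.mk p₀ a₀)) := by
      change _ = IsFractionRing.lift hgK (algebraMap (A₀ ⧸ p₀) k₀ (Ideal.Quotient.mk p₀ a₀))
      rw [IsFractionRing.lift_algebraMap]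
      rfl
    rw [h1, h2]
    exact congrArg (fun r => r (algebraMap (A₀ ⧸ p₀) k₀ (Ideal.Quotient.mk p₀ a₀))) hcomm

/-- The locus of reduced field valued fibres commutes with base change. -/
theorem grLocus_baseChange {A₀ A B₀ B : Type u} [CommRing A₀] [CommRing A]
    [CommRing B₀] [CommRing B] [Algebra A₀ A] [Algebra A₀ B₀] [Algebra A B]
    (e : A ⊗[A₀] B₀ ≃ₐ[A] B) :
    grLocus A B = PrimeSpectrum.comap (algebraMap A₀ A) ⁻¹' grLocus A₀ B₀ := by
  ext p
  constructor
  · intro hp K₀ _ _ hK₀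
    have hK₀' : RingHom.ker (algebraMap A₀ K₀) = p.asIdeal.comap (algebraMap A₀ A) := hK₀
    obtain ⟨Ω, hΩ, algΩ, j, hker, hcompat⟩ := exists_field_over p.asIdeal K₀ hK₀'
    letI algA₀Ω : Algebra A₀ Ω := ((algebraMap A Ω).comp (algebraMap A₀ A)).toAlgebra
    haveI : IsScalarTower A₀ A Ω := IsScalarTower.of_algebraMap_eq (fun _ => rfl)
    have h1 : IsReduced (B ⊗[A] Ω) := hp Ω hker
    have h2 : IsReduced (B₀ ⊗[A₀] Ω) := (isReduced_tensor_iff_of_equiv e Ω).mp h1
    let jA : K₀ →ₐ[A₀] Ω := { j with commutes' := fun a₀ => (hcompat a₀).symm }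
    exact isReduced_of_field_hom jA h2
  · intro hp K _ _ hK
    letI algA₀K : Algebra A₀ K := ((algebraMap A K).comp (algebraMap A₀ A)).toAlgebra
    haveI : IsScalarTower A₀ A K := IsScalarTower.of_algebraMap_eq (fun _ => rfl)
    have hker : RingHom.ker (algebraMap A₀ K) =
        (PrimeSpectrum.comap (algebraMap A₀ A) p).asIdeal := by
      ext x
      rw [RingHom.mem_ker]
      change algebraMap A K (algebraMap A₀ A x) = 0 ↔ algebraMap A₀ A x ∈ p.asIdeal
      rw [← hK, RingHom.mem_ker]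
    have h1 : IsReduced (B₀ ⊗[A₀] K) := hp K hker
    exact (isReduced_tensor_iff_of_equiv e K).mpr h1

/-- The locus of reduced field valued fibres of a finite type algebra over a Noetherian ring is
constructible. -/
theorem isConstructible_grLocus_of_isNoetherianRing (A B : Type u) [CommRing A] [CommRing B]
    [Algebra A B] [IsNoetherianRing A] [Algebra.FiniteType A B] :
    IsConstructible (grLocus A B) := by
  classical
  apply isConstructible_of_forall_irreducible_or
  intro Y hY hYirr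
  let p₀ : Ideal A := PrimeSpectrum.vanishingIdeal Y
  haveI hp₀ : p₀.IsPrime := (PrimeSpectrum.isIrreducible_iff_vanishingIdeal_isPrime).mp hYirr
  have hYeq : Y = PrimeSpectrum.zeroLocus (p₀ : Set A) := by
    rw [PrimeSpectrum.zeroLocus_vanishingIdeal_eq_closure, hY.closure_eq]
  obtain ⟨K₀, hK₀f, hK₀alg, hK₀frac⟩ : ∃ (K₀ : Type u) (_ : Field K₀)
      (_ : Algebra (A ⧸ p₀) K₀), IsFractionRing (A ⧸ p₀) K₀ :=
    ⟨FractionRing (A ⧸ p₀), inferInstance, inferInstance, inferInstance⟩
  letI algK₀ : Algebra A K₀ :=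
    ((algebraMap (A ⧸ p₀) K₀).comp (Ideal.Quotient.mk p₀)).toAlgebra
  have hK₀ker : ∀ x : A, algebraMap A K₀ x = 0 ↔ x ∈ p₀ := by
    intro x
    change algebraMap (A ⧸ p₀) K₀ (Ideal.Quotient.mk p₀ x) = 0 ↔ _
    rw [map_eq_zero_iff _ (IsFractionRing.injective (A ⧸ p₀) K₀),
      Ideal.Quotient.eq_zero_iff_mem]
  have hfrac : ∀ z : K₀, ∃ s a : A, algebraMap A K₀ s ≠ 0 ∧
      algebraMap A K₀ s * z = algebraMap A K₀ a := by
    intro z
    obtain ⟨x, y, hy, hxy⟩ := IsFractionRing.div_surjective (A ⧸ p₀) z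
    obtain ⟨x', rfl⟩ := Ideal.Quotient.mk_surjective x
    obtain ⟨y', rfl⟩ := Ideal.Quotient.mk_surjective y
    have hy0 : algebraMap A K₀ y' ≠ 0 := by
      intro h0
      change algebraMap (A ⧸ p₀) K₀ (Ideal.Quotient.mk p₀ y') = 0 at h0
      exact nonZeroDivisors.ne_zero hy
        ((IsFractionRing.injective (A ⧸ p₀) K₀) (by rw [h0, map_zero]))
    refine ⟨y', x', hy0, ?_⟩
    rw [← hxy]
    change algebraMap (A ⧸ p₀) K₀ (Ideal.Quotient.mk p₀ y') *
      (algebraMap (A ⧸ p₀) K₀ (Ideal.Quotient.mk p₀ x') /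
        algebraMap (A ⧸ p₀) K₀ (Ideal.Quotient.mk p₀ y')) =
      algebraMap (A ⧸ p₀) K₀ (Ideal.Quotient.mk p₀ x')
    exact mul_div_cancel₀ _ hy0
  obtain ⟨L, hLf, hLalg, hLperf⟩ : ∃ (L : Type u) (_ : Field L) (_ : Algebra K₀ L),
      PerfectField L :=
    ⟨AlgebraicClosure K₀, inferInstance, inferInstance, inferInstance⟩
  letI algL : Algebra A L := ((algebraMap K₀ L).comp (algebraMap A K₀)).toAlgebra
  haveI : IsScalarTower A K₀ L := IsScalarTower.of_algebraMap_eq (fun _ => rfl)
  have hLker : ∀ x : A, algebraMap A L x = 0 ↔ x ∈ p₀ := by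
    intro x
    change algebraMap K₀ L (algebraMap A K₀ x) = 0 ↔ _
    rw [map_eq_zero_iff _ (algebraMap K₀ L).injective, hK₀ker]
  have hp₀Y : (⟨p₀, hp₀⟩ : PrimeSpectrum A) ∈ Y := by
    rw [hYeq, PrimeSpectrum.mem_zeroLocus]
  by_cases hred : IsReduced (B ⊗[A] L)
  · obtain ⟨a, ha, hK⟩ := GeomRedGen.exists_forall_isReduced (A := A) (B := B) K₀ hfrac L hred
    refine ⟨PrimeSpectrum.basicOpen a, (PrimeSpectrum.basicOpen a).isOpen,
      ⟨⟨p₀, hp₀⟩, fun h => ha ((hK₀ker a).mpr h), hp₀Y⟩, Or.inl ?_⟩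
    rintro q ⟨hqa, hqY⟩ K _ _ hKer
    rw [hYeq, PrimeSpectrum.mem_zeroLocus] at hqY
    apply hK K
    · intro t ht
      have h1 : t ∈ q.asIdeal := hqY ((hK₀ker t).mp ht)
      rw [← hKer] at h1
      exact h1
    · intro h0
      apply hqa
      rw [← hKer]
      exact h0
  · obtain ⟨a, ha, hK⟩ := NonRed.exists_forall_exists_field_not_isReduced (A := A) (B := B) L hred
    refine ⟨PrimeSpectrum.basicOpen a, (PrimeSpectrum.basicOpen a).isOpen,
      ⟨⟨p₀, hp₀⟩, fun h => ha ((hLker a).mpr h), hp₀Y⟩, Or.inr ?_⟩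
    rintro q ⟨hqa, hqY⟩ hq
    rw [hYeq, PrimeSpectrum.mem_zeroLocus] at hqY
    obtain ⟨K', hK'f, hK'alg, hker', hnr⟩ :=
      hK q (fun t ht => hqY ((hLker t).mp ht)) hqa
    exact hnr (hq K' hker')

/-- The locus of reduced field valued fibres of a finitely presented algebra is constructible. -/
theorem isConstructible_grLocus (A B : Type u) [CommRing A] [CommRing B] [Algebra A B]
    [Algebra.FinitePresentation A B] : IsConstructible (grLocus A B) := by
  let P := Algebra.Presentation.ofFinitePresentation A B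
  haveI : IsNoetherianRing P.Core := Algebra.FiniteType.isNoetherianRing ℤ P.Core
  haveI : Algebra.FiniteType P.Core (P.ModelOfHasCoeffs P.Core) := inferInstance
  rw [grLocus_baseChange (P.tensorModelOfHasCoeffsEquiv P.Core)]
  exact isConstructible_preimage_comap _
    (isConstructible_grLocus_of_isNoetherianRing P.Core (P.ModelOfHasCoeffs P.Core))

end Groth.Agent.Helper7.GRLocus
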