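import Mathlib
import Groth.Agent.Lib.Helper7.GRLocus.Alg
import Groth.Agent.Lib.Helper7.GeomRedGen.Main

/-! helper7: the locus of points of the target of a quasi-compact morphism locally of finite
presentation with geometrically reduced fibre is locally constructible. -/

set_option linter.style.haveILetI false
set_option linter.unusedVariables false
set_option linter.unusedSectionVars false
set_option autoImplicit false
set_option backward.isDefEq.respectTransparency.types false

open CategoryTheory CategoryTheory.Limits AlgebraicGeometry TopologicalSpace Topology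
open scoped TensorProduct

namespace Groth.Agent.Helper7.GRLocus

universe u

open Groth.Agent.Helper7.NonRed Groth.Agent.Helper7.GeomRedGen

/-- The locus of reduced field valued fibres of one chart. -/
def chartLocus {X Y : Scheme.{u}} (f : X ⟶ Y) (V : Y.Opens) (W : X.Opens) (e : W ≤ f ⁻¹ᵁ V) :
    Set (PrimeSpectrum Γ(Y, V)) :=
  letI := (f.appLE V W e).hom.toAlgebra
  grLocus Γ(Y, V) Γ(X, W)

theorem isConstructible_chartLocus {X Y : Scheme.{u}} (f : X ⟶ Y)
    [LocallyOfFinitePresentation f] {V : Y.Opens} (hV : IsAffineOpen V) {W : X.Opens}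
    (hW : IsAffineOpen W) (e : W ≤ f ⁻¹ᵁ V) : IsConstructible (chartLocus f V W e) := by
  letI := (f.appLE V W e).hom.toAlgebra
  haveI : Algebra.FinitePresentation Γ(Y, V) Γ(X, W) := f.finitePresentation_appLE hV hW e
  exact isConstructible_grLocus Γ(Y, V) Γ(X, W)

section Dict

variable {X Y : Scheme.{u}} (f : X ⟶ Y) {V : Y.Opens} (hV : IsAffineOpen V)

include hV in
theorem ker_evaluation_fromSpec (p : PrimeSpectrum Γ(Y, V)) (hy : hV.fromSpec p ∈ V) :
    RingHom.ker (Y.evaluation V (hV.fromSpec p) hy).hom = p.asIdeal := by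
  have h1 : hV.primeIdealOf ⟨hV.fromSpec p, hy⟩ = p := by
    apply hV.fromSpec.isOpenEmbedding.injective
    exact hV.fromSpec_primeIdealOf ⟨hV.fromSpec p, hy⟩
  have h2 := Groth.Agent.Lib.Helper4.NormFibre2.ker_rho hV (hV.fromSpec p) hy
  rw [h1] at h2
  exact h2

/-- The dictionary between geometric reducedness of a fibre and the chart loci. -/
theorem geometricallyReduced_fromSpec_iff (t : Finset X.Opens)
    (ht1 : ∀ W ∈ t, IsAffineOpen W ∧ W ≤ f ⁻¹ᵁ V) (ht2 : ∀ x ∈ f ⁻¹ᵁ V, ∃ W ∈ t, x ∈ W)
    (p : PrimeSpectrum Γ(Y, V)) :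
    GeometricallyReduced (f.fiberToSpecResidueField (hV.fromSpec p)) ↔
      ∀ (W : X.Opens) (hW : W ∈ t), p ∈ chartLocus f V W (ht1 W hW).2 := by
  have hy : hV.fromSpec p ∈ V := by
    have : hV.fromSpec p ∈ Set.range hV.fromSpec := ⟨p, rfl⟩
    rw [hV.range_fromSpec] at this
    exact this
  have hker := ker_evaluation_fromSpec hV p hy
  constructor
  · intro h W hW K _ inst hK
    letI := (f.appLE V W (ht1 W hW).2).hom.toAlgebra
    have hK' : RingHom.ker (algebraMap Γ(Y, V) K) =
        (hV.primeIdealOf ⟨hV.fromSpec p, hy⟩).asIdeal := by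
      rw [hK, ← hker]
      exact Groth.Agent.Lib.Helper4.NormFibre2.ker_rho hV (hV.fromSpec p) hy
    obtain ⟨σ, hσ⟩ := Groth.Agent.Lib.Helper4.NormFibre2.exists_lift_rho hV (hV.fromSpec p) hy
      (algebraMap Γ(Y, V) K) hK'
    let ψ : Y.residueField (hV.fromSpec p) ⟶ .of K := CommRingCat.ofHom σ
    have hinst : inst = (Y.evaluation V (hV.fromSpec p) hy ≫ ψ).hom.toAlgebra := by
      apply Algebra.algebra_ext
      intro r
      exact (congrArg (fun g => g r) hσ).symm
    have key := isReduced_generic_chart f hV (ht1 W hW).1 (ht1 W hW).2 (hV.fromSpec p) hy h K ψ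
    rw [hinst]
    exact key
  · intro H
    refine ⟨fun K _ y' Z fst snd hZ => ?_⟩
    let ψ : Y.residueField (hV.fromSpec p) ⟶ .of K := Spec.preimage y'
    have hψ : Spec.map ψ = y' := Spec.map_preimage y'
    letI algK : Algebra Γ(Y, V) K := (Y.evaluation V (hV.fromSpec p) hy ≫ ψ).hom.toAlgebra
    have hfib : IsPullback (f.fiberι (hV.fromSpec p)) (f.fiberToSpecResidueField (hV.fromSpec p)) f
        (Y.fromSpecResidueField (hV.fromSpec p)) := IsPullback.of_hasPullback _ _
    have hP : IsPullback (fst ≫ f.fiberι (hV.fromSpec p)) snd f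
        (Spec.map (CommRingCat.ofHom (algebraMap Γ(Y, V) K)) ≫ hV.fromSpec) := by
      rw [← comp_fromSpecResidueField_eq hV (hV.fromSpec p) hy K ψ, hψ]
      exact hZ.paste_horiz hfib
    have hkerK : RingHom.ker (algebraMap Γ(Y, V) K) = p.asIdeal := by
      rw [← hker]
      ext r
      rw [RingHom.mem_ker, RingHom.mem_ker]
      change ψ.hom ((Y.evaluation V (hV.fromSpec p) hy).hom r) = 0 ↔ _
      rw [map_eq_zero_iff _ ψ.hom.injective]
    refine isReduced_of_cover_charts f hV K _ snd hP t ht1 ht2 ?_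
    intro W hWt
    exact H W hWt K hkerK

end Dict

/-- The locus of geometrically reduced fibres, pulled back to the spectrum of an affine open of
the target, is constructible. -/
theorem isConstructible_preimage_fromSpec {X Y : Scheme.{u}} (f : X ⟶ Y) [QuasiCompact f]
    [LocallyOfFinitePresentation f] {V : Y.Opens} (hV : IsAffineOpen V) :
    IsConstructible (hV.fromSpec ⁻¹'
      {y : Y | GeometricallyReduced (f.fiberToSpecResidueField y)}) := by
  classical
  have hcomp : IsCompact ((f ⁻¹ᵁ V : X.Opens) : Set X) :=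
    QuasiCompact.isCompact_preimage (f := f) _ V.isOpen hV.isCompact
  obtain ⟨t, ht1, ht2⟩ :=
    Groth.Agent.Helper7.FinType.exists_finset_affine_cover (f ⁻¹ᵁ V) hcomp
  have heq : hV.fromSpec ⁻¹' {y : Y | GeometricallyReduced (f.fiberToSpecResidueField y)} =
      ⋂ W : t, chartLocus f V W.1 (ht1 W.1 W.2).2 := by
    ext p
    change GeometricallyReduced (f.fiberToSpecResidueField (hV.fromSpec p)) ↔
      (p : PrimeSpectrum Γ(Y, V)) ∈ ⋂ W : t, chartLocus f V W.1 (ht1 W.1 W.2).2
    rw [geometricallyReduced_fromSpec_iff f hV t ht1 ht2 p]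
    constructor
    · intro h
      exact Set.mem_iInter.mpr fun W => h W.1 W.2
    · intro h W hW
      exact Set.mem_iInter.mp h ⟨W, hW⟩
  rw [heq]
  exact IsConstructible.iInter fun W =>
    isConstructible_chartLocus f hV (ht1 W.1 W.2).1 (ht1 W.1 W.2).2

/-- S1301. -/
theorem isLocallyConstructible_geometricallyReduced_locus {X Y : Scheme.{u}} (f : X ⟶ Y)
    [QuasiCompact f] [LocallyOfFinitePresentation f] :
    IsLocallyConstructible {y : Y | GeometricallyReduced (f.fiberToSpecResidueField y)} := by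
  intro y
  obtain ⟨_, ⟨V, hV, rfl⟩, hy, -⟩ := (Y.isBasis_affineOpens).exists_subset_of_mem_open
    (Set.mem_univ y) isOpen_univ
  refine ⟨V, V.isOpen.mem_nhds hy, V.isOpen, ?_⟩
  have hV' : IsAffineOpen V := hV
  have hc := isConstructible_preimage_fromSpec f hV'
  have hemb : IsOpenEmbedding (hV'.isoSpec.hom : ↥V → PrimeSpectrum Γ(Y, V)) :=
    hV'.isoSpec.hom.isOpenEmbedding
  have h2 := hc.preimage_of_isOpenEmbedding hemb
  have heq : ((Subtype.val : ↥V → Y) ⁻¹'
      {y : Y | GeometricallyReduced (f.fiberToSpecResidueField y)}) =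
      (hV'.isoSpec.hom : ↥V → PrimeSpectrum Γ(Y, V)) ⁻¹' (hV'.fromSpec ⁻¹'
        {y : Y | GeometricallyReduced (f.fiberToSpecResidueField y)}) := by
    ext x
    have h3 : hV'.fromSpec (hV'.isoSpec.hom x) = x.1 := hV'.fromSpec_primeIdealOf x
    constructor
    · intro h
      change GeometricallyReduced
        (f.fiberToSpecResidueField (hV'.fromSpec (hV'.isoSpec.hom x)))
      rw [h3]
      exact h
    · intro h
      change GeometricallyReduced
        (f.fiberToSpecResidueField (hV'.fromSpec (hV'.isoSpec.hom x))) at h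
      rw [h3] at h
      exact h
  exact heq ▸ h2

end Groth.Agent.Helper7.GRLocus
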